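import Cfsg.Agent.Lib.KnownSimple.MultM.L33G.ValC0

/-!
# The relations between the relators
-/

set_option autoImplicit false

namespace Cfsg.Agent.Lib.KnownSimple.MultM.L33G

open Cfsg Cfsg.Spor Cfsg.Agent.Lib.Compute Cfsg.Agent.Lib.KnownSimple.PE Cfsg.Agent.Lib.KnownSimple.Leech
open Cfsg.Agent.Lib.KnownSimple Cfsg.Agent.Lib.KnownSimple.AutRigid Cfsg.Agent.Lib.KnownSimple.Pres
open Cfsg.Agent.Lib.KnownSimple.MultC


theorem hEF : ∀ e, e < n * d → chkEdgeG 4294967296 mskM cKK C.τ d n RL 28 3 23 (lookP parT) (lookP genT) (lg 0 peL) tv e = true := by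
  have h : allBelow fe 720 = true :=
    allBelow_of_pad (m := 1) (s := 1024) (by norm_num) (fun c hc => by
    interval_cases c
    · exact ve0
  )
  intro e he
  exact (allBelow_iff _ _).1 h e he
set_option maxHeartbeats 0 in
set_option maxRecDepth 100000 in
theorem hLn : allBelow (fun q => Nat.blt (((lg [] RL q).length + 1) * 65536) 4294967296) 28 = true := by decide +kernel
theorem hE : ∀ e, e < n * d → chkEdge C.τ d n RL 28 3 23 (lookP parT) (lookP genT) (lg 0 peL) (toV 4294967296 26 tv) e = true :=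
  chkEdge_of_G (by norm_num) (good_of_mask (W := 32) (b := 16) (by norm_num) (by norm_num) (by norm_num) (by decide +kernel) (by decide +kernel))
    (fun l i hl hi => C.hlt l i hl hi) (fun q _ => words_lg hokR q) (len_of_chk hLn) hEF
set_option maxRecDepth 100000 in
/-- The relations. -/
def rowsF : List (ℕ × ℕ × List ℤ) := [(0,7,[.ofNat 0,.ofNat 0,.ofNat 0,.negSucc 0,.negSucc 0,.ofNat 0,.ofNat 2,.ofNat 0,.ofNat 0,.ofNat 0,.ofNat 0,.ofNat 0,.ofNat 0,.negSucc 0,.ofNat 0,.ofNat 0,.ofNat 0,.ofNat 0,.ofNat 0,.ofNat 0,.ofNat 0,.ofNat 2]),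
  (2,27,[.ofNat 0,.ofNat 0,.ofNat 0,.ofNat 3,.ofNat 0,.ofNat 4,.ofNat 0,.ofNat 0,.ofNat 0,.negSucc 1,.ofNat 0,.ofNat 0,.ofNat 0,.ofNat 0,.ofNat 0,.ofNat 0,.negSucc 0]),
  (4,6,[.ofNat 0,.ofNat 0,.ofNat 0,.ofNat 1,.ofNat 0,.ofNat 2,.ofNat 0,.ofNat 0,.ofNat 0,.ofNat 0,.ofNat 0,.ofNat 0,.ofNat 0,.ofNat 0,.ofNat 0,.ofNat 0,.ofNat 0,.ofNat 0,.ofNat 0,.ofNat 1,.negSucc 0]),
  (5,5,[.negSucc 1,.negSucc 0,.ofNat 1,.ofNat 5,.ofNat 10,.negSucc 6,.ofNat 4,.ofNat 1,.ofNat 0,.ofNat 3,.ofNat 0,.negSucc 0,.ofNat 0,.ofNat 1,.ofNat 1,.ofNat 0,.ofNat 1,.ofNat 1,.ofNat 0,.ofNat 2,.ofNat 0,.ofNat 0,.negSucc 1,.negSucc 2,.negSucc 0,.negSucc 0]),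
  (5,12,[.ofNat 0,.ofNat 0,.ofNat 0,.ofNat 0,.ofNat 0,.ofNat 1,.negSucc 0,.ofNat 0,.ofNat 0,.ofNat 0,.ofNat 0,.ofNat 0,.ofNat 0,.ofNat 0,.ofNat 0,.ofNat 1,.negSucc 0,.ofNat 1]),
  (8,25,[.ofNat 0,.ofNat 0,.ofNat 0,.negSucc 2,.ofNat 0,.negSucc 3,.ofNat 1,.negSucc 1,.ofNat 0,.ofNat 1,.ofNat 0,.ofNat 1,.ofNat 0,.ofNat 0,.ofNat 0,.ofNat 0,.ofNat 2,.negSucc 0]),
  (12,26,[.negSucc 3,.negSucc 2,.negSucc 1,.negSucc 3,.ofNat 6,.negSucc 10,.ofNat 6,.ofNat 1,.ofNat 0,.ofNat 2,.ofNat 0,.negSucc 0,.ofNat 0,.negSucc 1,.negSucc 1,.negSucc 0,.ofNat 2,.ofNat 3,.ofNat 1,.ofNat 3,.ofNat 0,.ofNat 0,.negSucc 1,.negSucc 0]),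
  (18,6,[.ofNat 0,.ofNat 0,.ofNat 0,.ofNat 2,.ofNat 0,.ofNat 1,.ofNat 0,.ofNat 0,.ofNat 0,.ofNat 0,.ofNat 0,.ofNat 0,.ofNat 0,.ofNat 0,.ofNat 0,.ofNat 0,.ofNat 0,.ofNat 0,.ofNat 0,.negSucc 0,.ofNat 1]),
  (20,22,[.negSucc 1,.negSucc 0,.ofNat 1,.ofNat 0,.ofNat 5,.negSucc 4,.ofNat 6,.ofNat 6,.ofNat 0,.ofNat 2,.ofNat 0,.negSucc 0,.ofNat 0,.negSucc 0,.negSucc 0,.negSucc 0,.ofNat 1,.ofNat 0,.ofNat 0,.ofNat 1,.ofNat 0,.negSucc 0,.ofNat 1,.ofNat 0,.negSucc 0]),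
  (24,5,[.ofNat 0,.ofNat 0,.ofNat 0,.ofNat 0,.ofNat 0,.ofNat 0,.ofNat 0,.ofNat 0,.ofNat 0,.ofNat 0,.ofNat 0,.ofNat 0,.ofNat 0,.negSucc 0,.ofNat 0,.ofNat 0,.ofNat 0,.ofNat 0,.ofNat 0,.ofNat 0,.ofNat 0,.ofNat 0,.ofNat 2]),
  (26,24,[.ofNat 0,.ofNat 0,.ofNat 0,.ofNat 0,.ofNat 1,.ofNat 0,.ofNat 0,.ofNat 2,.ofNat 0,.ofNat 0,.ofNat 0,.ofNat 0,.ofNat 0,.ofNat 0,.negSucc 0]),
  (27,21,[.ofNat 1,.ofNat 0,.negSucc 0,.ofNat 6,.ofNat 0,.ofNat 3,.ofNat 5,.negSucc 2,.ofNat 0,.negSucc 0,.ofNat 0,.ofNat 1,.ofNat 0,.ofNat 0,.ofNat 2,.ofNat 0,.negSucc 0,.ofNat 1,.ofNat 1,.ofNat 0,.ofNat 0,.negSucc 0,.negSucc 0,.negSucc 0,.negSucc 0]),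
  (30,18,[.ofNat 0,.ofNat 0,.ofNat 0,.negSucc 2,.negSucc 0,.ofNat 0,.ofNat 2,.ofNat 0,.ofNat 0,.ofNat 0,.ofNat 0,.ofNat 0,.ofNat 0,.negSucc 1,.ofNat 0,.ofNat 0,.ofNat 0,.ofNat 0,.ofNat 0,.ofNat 0,.ofNat 0,.ofNat 1,.ofNat 2]),
  (37,17,[.negSucc 2,.negSucc 2,.ofNat 0,.negSucc 5,.ofNat 1,.negSucc 7,.ofNat 4,.ofNat 1,.ofNat 0,.ofNat 1,.ofNat 0,.ofNat 0,.ofNat 0,.negSucc 0,.negSucc 2,.negSucc 1,.ofNat 2,.ofNat 3,.ofNat 1,.ofNat 4,.ofNat 0,.negSucc 1,.ofNat 1,.negSucc 0,.ofNat 1]),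
  (38,22,[.ofNat 0,.ofNat 0,.ofNat 0,.ofNat 1,.ofNat 0,.ofNat 1,.negSucc 1,.negSucc 0,.ofNat 0,.ofNat 0,.ofNat 0,.ofNat 0,.ofNat 0,.ofNat 1,.ofNat 0,.ofNat 0,.ofNat 0,.ofNat 1,.ofNat 0,.ofNat 0,.ofNat 0,.ofNat 0,.ofNat 0,.negSucc 0,.ofNat 0,.ofNat 1]),
  (42,10,[.ofNat 1,.negSucc 1,.ofNat 0,.ofNat 2,.negSucc 3,.negSucc 2,.negSucc 2,.ofNat 3,.ofNat 0,.ofNat 2,.ofNat 0,.negSucc 1,.ofNat 0,.ofNat 2,.ofNat 0,.ofNat 1,.negSucc 0,.ofNat 0,.ofNat 0,.ofNat 0,.ofNat 0,.negSucc 1,.ofNat 1,.negSucc 0,.ofNat 1,.ofNat 1]),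
  (45,19,[.ofNat 0,.ofNat 0,.ofNat 0,.negSucc 0,.negSucc 6,.ofNat 0,.negSucc 3,.ofNat 2,.ofNat 0,.ofNat 0,.ofNat 0,.ofNat 0,.ofNat 0,.ofNat 2,.ofNat 1,.ofNat 0,.ofNat 0,.negSucc 0,.ofNat 0,.ofNat 0,.ofNat 0,.ofNat 2,.ofNat 1,.ofNat 0,.negSucc 1]),
  (50,21,[.ofNat 0,.ofNat 0,.ofNat 0,.negSucc 7,.ofNat 0,.negSucc 1,.ofNat 0,.ofNat 4,.ofNat 0,.ofNat 0,.ofNat 0,.ofNat 1,.ofNat 0,.negSucc 2,.negSucc 3,.ofNat 0,.negSucc 0,.ofNat 0,.ofNat 0,.ofNat 0,.ofNat 0,.negSucc 1,.ofNat 4,.ofNat 1,.ofNat 2,.ofNat 2]),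
  (57,21,[.ofNat 0,.ofNat 0,.ofNat 0,.ofNat 3,.ofNat 2,.ofNat 0,.ofNat 2,.ofNat 3,.ofNat 0,.ofNat 0,.ofNat 0,.ofNat 0,.ofNat 0,.ofNat 0,.ofNat 0,.ofNat 0,.ofNat 0,.ofNat 0,.ofNat 0,.ofNat 0,.ofNat 0,.ofNat 0,.ofNat 0,.ofNat 0,.negSucc 0]),
  (63,24,[.ofNat 0,.ofNat 0,.ofNat 0,.ofNat 0,.negSucc 2,.ofNat 0,.ofNat 0,.negSucc 1,.ofNat 0,.ofNat 0,.ofNat 0,.ofNat 0,.ofNat 0,.ofNat 0,.ofNat 1]),
  (72,1,[.ofNat 1,.ofNat 0,.negSucc 0,.ofNat 0,.negSucc 2,.ofNat 3,.ofNat 2,.ofNat 0,.ofNat 0,.negSucc 0,.ofNat 0,.ofNat 0,.ofNat 0,.ofNat 0,.ofNat 0,.ofNat 0,.negSucc 0,.negSucc 0,.ofNat 1,.ofNat 0,.ofNat 0,.negSucc 0,.ofNat 1,.negSucc 0,.ofNat 1]),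
  (82,16,[.ofNat 0,.ofNat 0,.ofNat 0,.ofNat 5,.ofNat 8,.ofNat 5,.ofNat 4,.ofNat 0,.ofNat 0,.negSucc 0,.ofNat 0,.ofNat 0,.ofNat 0,.negSucc 0,.ofNat 0,.negSucc 0,.ofNat 1,.negSucc 0,.negSucc 0,.negSucc 0,.ofNat 1,.ofNat 1,.negSucc 0]),
  (86,17,[.ofNat 0,.ofNat 0,.ofNat 0,.ofNat 4,.ofNat 9,.ofNat 1,.ofNat 10,.ofNat 0,.ofNat 0,.ofNat 1,.ofNat 0,.ofNat 0,.ofNat 0,.negSucc 2,.ofNat 0,.negSucc 0,.ofNat 1,.negSucc 0,.negSucc 0,.ofNat 0,.ofNat 0,.negSucc 2,.ofNat 1,.ofNat 2]),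
  (103,18,[.ofNat 0,.ofNat 0,.ofNat 0,.negSucc 1,.negSucc 2,.ofNat 0,.ofNat 3,.ofNat 0,.ofNat 0,.ofNat 0,.ofNat 0,.ofNat 0,.ofNat 0,.negSucc 1,.ofNat 0,.ofNat 0,.ofNat 0,.ofNat 0,.ofNat 0,.ofNat 0,.ofNat 0,.negSucc 0,.ofNat 4]),
  (111,24,[.negSucc 0,.negSucc 0,.ofNat 0,.ofNat 3,.ofNat 3,.negSucc 0,.ofNat 2,.negSucc 7,.ofNat 0,.ofNat 1,.ofNat 0,.ofNat 1,.ofNat 0,.ofNat 2,.ofNat 3,.negSucc 0,.ofNat 2,.ofNat 1,.negSucc 0,.ofNat 1,.ofNat 0,.ofNat 1,.negSucc 3,.ofNat 0,.ofNat 0,.negSucc 1]),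
  (116,27,[.negSucc 1,.negSucc 1,.ofNat 0,.ofNat 4,.ofNat 0,.negSucc 8,.ofNat 4,.ofNat 7,.ofNat 0,.ofNat 0,.ofNat 0,.negSucc 0,.ofNat 0,.ofNat 1,.negSucc 0,.ofNat 0,.ofNat 1,.negSucc 0,.ofNat 0,.ofNat 3,.ofNat 0,.negSucc 1,.negSucc 0,.ofNat 1,.negSucc 1]),
  (122,23,[.ofNat 2,.negSucc 4,.ofNat 2,.negSucc 6,.negSucc 0,.negSucc 6,.ofNat 4,.ofNat 6,.ofNat 0,.ofNat 1,.ofNat 0,.ofNat 1,.ofNat 0,.ofNat 0,.negSucc 3,.negSucc 1,.ofNat 3,.negSucc 3,.negSucc 0,.ofNat 3,.ofNat 0,.negSucc 1,.ofNat 1,.negSucc 0,.ofNat 2,.ofNat 2]),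
  (129,18,[.ofNat 0,.ofNat 0,.ofNat 0,.ofNat 3,.ofNat 8,.ofNat 0,.negSucc 0,.negSucc 1,.ofNat 0,.ofNat 0,.ofNat 0,.ofNat 0,.ofNat 0,.ofNat 1,.negSucc 0,.ofNat 0,.ofNat 0,.ofNat 1,.ofNat 0,.ofNat 0,.ofNat 0,.ofNat 1,.negSucc 3,.ofNat 0,.ofNat 2]),
  (133,16,[.negSucc 0,.negSucc 2,.ofNat 1,.ofNat 5,.ofNat 7,.negSucc 1,.ofNat 5,.ofNat 19,.ofNat 0,.ofNat 3,.ofNat 0,.negSucc 3,.negSucc 0,.ofNat 1,.negSucc 1,.negSucc 0,.ofNat 0,.negSucc 1,.ofNat 0,.ofNat 2,.ofNat 0,.ofNat 0,.ofNat 0,.ofNat 1,.negSucc 1,.negSucc 1])]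
set_option maxHeartbeats 0 in
set_option maxRecDepth 100000 in
theorem hF : ∀ x ∈ rowsF, chkRow C.τ d n RL 28 (n * d) 576 (toV 4294967296 26 tv) x = true := by
  have h : rowsF.all (chkRow τ d n RL 28 (n * d) 576 (toV 4294967296 26 tv)) = true := by decide +kernel
  exact fun x hx => List.all_eq_true.1 h x hx
set_option maxRecDepth 100000 in
/-- A combination. -/
def cb0 : List (ℕ × ℤ) := [(1,.ofNat 12632),(2,.ofNat 27822),(3,.ofNat 106094),(4,.ofNat 45413),(7,.ofNat 75678),(8,.negSucc 90897),(9,.negSucc 106093),(10,.ofNat 116036),(11,.ofNat 63147),(12,.ofNat 428483),(13,.ofNat 25238),(14,.negSucc 313326),(15,.ofNat 6),(16,.ofNat 988280),(17,.negSucc 32798),(18,.negSucc 2281),(19,.negSucc 95847),(20,.negSucc 47954),(21,.ofNat 29105),(22,.ofNat 51723),(23,.ofNat 975718),(24,.negSucc 40395),(25,.negSucc 25257),(26,.negSucc 1),(27,.ofNat 1059242)]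
set_option maxHeartbeats 0 in
set_option maxRecDepth 100000 in
theorem hcb0 : chkComb 3 23 rowsF 0 0 (0) cb0 = true := by decide +kernel
set_option maxRecDepth 100000 in
/-- A combination. -/
def cb1 : List (ℕ × ℤ) := [(1,.negSucc 11),(2,.negSucc 25),(3,.negSucc 99),(4,.negSucc 42),(7,.negSucc 71),(8,.ofNat 86),(9,.ofNat 100),(10,.negSucc 109),(11,.negSucc 58),(12,.negSucc 401),(13,.negSucc 23),(14,.ofNat 295),(16,.negSucc 927),(17,.ofNat 31),(18,.ofNat 2),(19,.ofNat 90),(20,.ofNat 45),(21,.negSucc 26),(22,.negSucc 48),(23,.negSucc 915),(24,.ofNat 38),(25,.ofNat 24),(27,.negSucc 993)]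
set_option maxHeartbeats 0 in
set_option maxRecDepth 100000 in
theorem hcb1 : chkComb 3 23 rowsF 0 1 (0) cb1 = true := by decide +kernel
set_option maxRecDepth 100000 in
/-- A combination. -/
def cb2 : List (ℕ × ℤ) := [(1,.negSucc 384),(2,.negSucc 841),(3,.negSucc 3219),(4,.negSucc 1383),(5,.negSucc 1),(7,.negSucc 2303),(8,.ofNat 2762),(9,.ofNat 3220),(10,.negSucc 3522),(11,.negSucc 1910),(12,.negSucc 12987),(13,.negSucc 767),(14,.ofNat 9505),(16,.negSucc 29960),(17,.ofNat 997),(18,.ofNat 68),(19,.ofNat 2910),(20,.ofNat 1453),(21,.negSucc 878),(22,.negSucc 1572),(23,.negSucc 29576),(24,.ofNat 1226),(25,.ofNat 768),(27,.negSucc 32105)]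
set_option maxHeartbeats 0 in
set_option maxRecDepth 100000 in
theorem hcb2 : chkComb 3 23 rowsF 0 2 (0) cb2 = true := by decide +kernel
set_option maxRecDepth 100000 in
/-- A combination. -/
def cb3 : List (ℕ × ℤ) := [(1,.negSucc 18919),(2,.negSucc 41669),(3,.negSucc 158895),(4,.negSucc 68016),(6,.negSucc 1),(7,.negSucc 113357),(8,.ofNat 136138),(9,.ofNat 158896),(10,.negSucc 173785),(11,.negSucc 94568),(12,.negSucc 641717),(13,.negSucc 37797),(14,.ofNat 469257),(15,.negSucc 7),(16,.negSucc 1480103),(17,.ofNat 49123),(18,.ofNat 3418),(19,.ofNat 143552),(20,.ofNat 71819),(21,.negSucc 43580),(22,.negSucc 77470),(23,.negSucc 1461282),(24,.ofNat 60500),(25,.ofNat 37832),(26,.ofNat 2),(27,.negSucc 1586371)]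
set_option maxHeartbeats 0 in
set_option maxRecDepth 100000 in
theorem hcb3 : chkComb 3 23 rowsF 0 3 (0) cb3 = true := by decide +kernel
set_option maxRecDepth 100000 in
/-- A combination. -/
def cb4 : List (ℕ × ℤ) := [(1,.ofNat 4),(2,.ofNat 12),(3,.ofNat 42),(4,.ofNat 19),(7,.ofNat 30),(8,.negSucc 35),(9,.negSucc 41),(10,.ofNat 46),(11,.ofNat 25),(12,.ofNat 168),(13,.ofNat 10),(14,.negSucc 124),(16,.ofNat 390),(17,.negSucc 12),(18,.negSucc 0),(19,.negSucc 37),(20,.negSucc 18),(21,.ofNat 12),(22,.ofNat 20),(23,.ofNat 386),(24,.negSucc 15),(25,.negSucc 9),(27,.ofNat 418)]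
set_option maxHeartbeats 0 in
set_option maxRecDepth 100000 in
theorem hcb4 : chkComb 3 23 rowsF 0 4 (0) cb4 = true := by decide +kernel
set_option maxRecDepth 100000 in
/-- A combination. -/
def cb5 : List (ℕ × ℤ) := [(1,.ofNat 37860),(2,.ofNat 83388),(3,.ofNat 317982),(4,.ofNat 136110),(7,.ofNat 226818),(8,.negSucc 272435),(9,.negSucc 317982),(10,.ofNat 347778),(11,.ofNat 189264),(12,.ofNat 1284244),(13,.ofNat 75642),(14,.negSucc 939095),(15,.ofNat 18),(16,.ofNat 2962057),(17,.negSucc 98303),(18,.negSucc 6839),(19,.negSucc 287273),(20,.negSucc 143729),(21,.ofNat 87234),(22,.ofNat 155022),(23,.ofNat 2924407),(24,.negSucc 121073),(25,.negSucc 75701),(26,.negSucc 5),(27,.ofNat 3174745)]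
set_option maxHeartbeats 0 in
set_option maxRecDepth 100000 in
theorem hcb5 : chkComb 3 23 rowsF 0 5 (0) cb5 = true := by decide +kernel
set_option maxRecDepth 100000 in
/-- A combination. -/
def cb6 : List (ℕ × ℤ) := [(1,.ofNat 18337),(2,.ofNat 40396),(3,.ofNat 154030),(4,.ofNat 65923),(5,.negSucc 2),(7,.ofNat 109860),(8,.negSucc 131962),(9,.negSucc 154029),(10,.ofNat 168462),(11,.ofNat 91687),(12,.ofNat 622109),(13,.ofNat 36638),(14,.negSucc 454902),(15,.ofNat 9),(16,.ofNat 1434863),(17,.negSucc 47615),(18,.negSucc 3314),(19,.negSucc 139152),(20,.negSucc 69625),(21,.ofNat 42262),(22,.ofNat 75088),(23,.ofNat 1416629),(24,.negSucc 58647),(25,.negSucc 36667),(26,.negSucc 2),(27,.ofNat 1537901)]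
set_option maxHeartbeats 0 in
set_option maxRecDepth 100000 in
theorem hcb6 : chkComb 3 23 rowsF 0 6 (0) cb6 = true := by decide +kernel
set_option maxRecDepth 100000 in
/-- A combination. -/
def cb7 : List (ℕ × ℤ) := [(0,.negSucc 0),(1,.negSucc 18863),(2,.negSucc 41543),(3,.negSucc 158405),(4,.negSucc 67811),(6,.negSucc 5),(7,.negSucc 113039),(8,.ofNat 135720),(9,.ofNat 158406),(10,.negSucc 173249),(11,.negSucc 94265),(12,.negSucc 639702),(13,.negSucc 37679),(14,.ofNat 467790),(15,.negSucc 5),(16,.negSucc 1475470),(17,.ofNat 48972),(18,.ofNat 3408),(19,.ofNat 143112),(20,.ofNat 71592),(21,.negSucc 43427),(22,.negSucc 77243),(23,.negSucc 1456694),(24,.ofNat 60312),(25,.ofNat 37722),(27,.negSucc 1581388)]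
set_option maxHeartbeats 0 in
set_option maxRecDepth 100000 in
theorem hcb7 : chkComb 3 23 rowsF 0 7 (0) cb7 = true := by decide +kernel
set_option maxRecDepth 100000 in
/-- A combination. -/
def cb8 : List (ℕ × ℤ) := [(1,.ofNat 18731),(2,.ofNat 41262),(3,.ofNat 157334),(4,.ofNat 67346),(7,.ofNat 112224),(8,.negSucc 134796),(9,.negSucc 157333),(10,.ofNat 172077),(11,.ofNat 93648),(12,.ofNat 635433),(13,.ofNat 37426),(14,.negSucc 464657),(15,.ofNat 9),(16,.ofNat 1465604),(17,.negSucc 48638),(18,.negSucc 3384),(19,.negSucc 142138),(20,.negSucc 71116),(21,.ofNat 43165),(22,.ofNat 76701),(23,.ofNat 1446978),(24,.negSucc 59905),(25,.negSucc 37455),(26,.negSucc 2),(27,.ofNat 1570843)]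
set_option maxHeartbeats 0 in
set_option maxRecDepth 100000 in
theorem hcb8 : chkComb 3 23 rowsF 0 8 (0) cb8 = true := by decide +kernel
set_option maxRecDepth 100000 in
/-- A combination. -/
def cb9 : List (ℕ × ℤ) := [(1,.negSucc 409),(2,.negSucc 887),(3,.negSucc 3408),(4,.negSucc 1473),(5,.negSucc 5),(7,.negSucc 2447),(8,.ofNat 2930),(9,.ofNat 3409),(10,.negSucc 3730),(11,.negSucc 2014),(12,.negSucc 13722),(13,.negSucc 815),(14,.ofNat 10055),(15,.ofNat 1),(16,.negSucc 31665),(17,.ofNat 1057),(18,.ofNat 70),(19,.ofNat 3078),(20,.ofNat 1535),(21,.negSucc 924),(22,.negSucc 1668),(23,.negSucc 31257),(24,.ofNat 1298),(25,.ofNat 815),(27,.negSucc 33924),(28,.negSucc 0)]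
set_option maxHeartbeats 0 in
set_option maxRecDepth 100000 in
theorem hcb9 : chkComb 3 23 rowsF 0 9 (0) cb9 = true := by decide +kernel
set_option maxRecDepth 100000 in
/-- A combination. -/
def cb10 : List (ℕ × ℤ) := [(1,.negSucc 37863),(2,.negSucc 83391),(3,.negSucc 317991),(4,.negSucc 136119),(6,.negSucc 3),(7,.negSucc 226859),(8,.ofNat 272448),(9,.ofNat 317992),(10,.negSucc 347791),(11,.negSucc 189255),(12,.negSucc 1284239),(13,.negSucc 75643),(14,.ofNat 939104),(15,.negSucc 15),(16,.negSucc 2962062),(17,.ofNat 98308),(18,.ofNat 6840),(19,.ofNat 287284),(20,.ofNat 143728),(21,.negSucc 87215),(22,.negSucc 155039),(23,.negSucc 2924396),(24,.ofNat 121076),(25,.ofNat 75712),(26,.ofNat 4),(27,.negSucc 3174730)]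
set_option maxHeartbeats 0 in
set_option maxRecDepth 100000 in
theorem hcb10 : chkComb 3 23 rowsF 0 10 (0) cb10 = true := by decide +kernel
set_option maxRecDepth 100000 in
/-- A combination. -/
def cb11 : List (ℕ × ℤ) := [(1,.negSucc 3),(2,.negSucc 1),(3,.negSucc 15),(4,.negSucc 4),(7,.negSucc 11),(8,.ofNat 14),(9,.ofNat 16),(10,.negSucc 18),(11,.negSucc 8),(12,.negSucc 65),(13,.negSucc 3),(14,.ofNat 45),(16,.negSucc 147),(17,.ofNat 5),(19,.ofNat 14),(20,.ofNat 7),(21,.negSucc 2),(22,.negSucc 8),(23,.negSucc 143),(24,.ofNat 6),(25,.ofNat 4),(27,.negSucc 157)]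
set_option maxHeartbeats 0 in
set_option maxRecDepth 100000 in
theorem hcb11 : chkComb 3 23 rowsF 0 11 (0) cb11 = true := by decide +kernel
set_option maxRecDepth 100000 in
/-- A combination. -/
def cb12 : List (ℕ × ℤ) := [(1,.negSucc 29593),(2,.negSucc 65169),(3,.negSucc 248520),(4,.negSucc 106390),(5,.negSucc 2),(6,.negSucc 2),(7,.negSucc 177308),(8,.ofNat 212931),(9,.ofNat 248521),(10,.negSucc 271810),(11,.negSucc 147901),(12,.negSucc 1003654),(13,.negSucc 59120),(14,.ofNat 733932),(15,.negSucc 11),(16,.negSucc 2314904),(17,.ofNat 76833),(18,.ofNat 5344),(19,.ofNat 224523),(20,.ofNat 112324),(21,.negSucc 68155),(22,.negSucc 121173),(23,.negSucc 2285461),(24,.ofNat 94625),(25,.ofNat 59173),(26,.ofNat 3),(27,.negSucc 2481099)]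
set_option maxHeartbeats 0 in
set_option maxRecDepth 100000 in
theorem hcb12 : chkComb 3 23 rowsF 0 12 (0) cb12 = true := by decide +kernel
set_option maxRecDepth 100000 in
/-- A combination. -/
def cb13 : List (ℕ × ℤ) := [(1,.negSucc 318),(2,.negSucc 693),(3,.negSucc 2657),(4,.negSucc 1142),(5,.negSucc 1),(7,.negSucc 1901),(8,.ofNat 2280),(9,.ofNat 2658),(10,.negSucc 2907),(11,.negSucc 1576),(12,.negSucc 10720),(13,.negSucc 633),(14,.ofNat 7845),(16,.negSucc 24729),(17,.ofNat 823),(18,.ofNat 56),(19,.ofNat 2402),(20,.ofNat 1199),(21,.negSucc 724),(22,.negSucc 1298),(23,.negSucc 24411),(24,.ofNat 1012),(25,.ofNat 634),(27,.negSucc 26499)]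
set_option maxHeartbeats 0 in
set_option maxRecDepth 100000 in
theorem hcb13 : chkComb 3 23 rowsF 0 13 (0) cb13 = true := by decide +kernel
set_option maxRecDepth 100000 in
/-- A combination. -/
def cb14 : List (ℕ × ℤ) := [(1,.negSucc 18853),(2,.negSucc 41521),(3,.negSucc 158333),(4,.negSucc 67774),(6,.negSucc 1),(7,.negSucc 112955),(8,.ofNat 135656),(9,.ofNat 158334),(10,.negSucc 173170),(11,.negSucc 94234),(12,.negSucc 639450),(13,.negSucc 37663),(14,.ofNat 467597),(15,.negSucc 7),(16,.negSucc 1474872),(17,.ofNat 48949),(18,.ofNat 3406),(19,.ofNat 143044),(20,.ofNat 71565),(21,.negSucc 43426),(22,.negSucc 77196),(23,.negSucc 1456117),(24,.ofNat 60286),(25,.ofNat 37698),(26,.ofNat 2),(27,.negSucc 1580765)]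
set_option maxHeartbeats 0 in
set_option maxRecDepth 100000 in
theorem hcb14 : chkComb 3 23 rowsF 0 14 (0) cb14 = true := by decide +kernel
set_option maxRecDepth 100000 in
/-- A combination. -/
def cb15 : List (ℕ × ℤ) := [(1,.ofNat 18258),(2,.ofNat 40223),(3,.ofNat 153367),(4,.ofNat 65638),(5,.negSucc 2),(7,.ofNat 109386),(8,.negSucc 131393),(9,.negSucc 153366),(10,.ofNat 167735),(11,.ofNat 91294),(12,.ofNat 619436),(13,.ofNat 36480),(14,.negSucc 452946),(15,.ofNat 9),(16,.ofNat 1428697),(17,.negSucc 47410),(18,.negSucc 3300),(19,.negSucc 138554),(20,.negSucc 69326),(21,.ofNat 42081),(22,.ofNat 74764),(23,.ofNat 1410542),(24,.negSucc 58395),(25,.negSucc 36509),(26,.negSucc 2),(27,.ofNat 1531294)]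
set_option maxHeartbeats 0 in
set_option maxRecDepth 100000 in
theorem hcb15 : chkComb 3 23 rowsF 0 15 (0) cb15 = true := by decide +kernel
set_option maxRecDepth 100000 in
/-- A combination. -/
def cb16 : List (ℕ × ℤ) := [(1,.ofNat 25240),(2,.ofNat 55604),(3,.ofNat 212017),(4,.ofNat 90742),(5,.negSucc 3),(7,.ofNat 151221),(8,.negSucc 181642),(9,.negSucc 212016),(10,.ofNat 231881),(11,.ofNat 126203),(12,.ofNat 856311),(13,.ofNat 50431),(14,.negSucc 626155),(15,.ofNat 12),(16,.ofNat 1975035),(17,.negSucc 65541),(18,.negSucc 4562),(19,.negSucc 191539),(20,.negSucc 95836),(21,.ofNat 58171),(22,.ofNat 103357),(23,.ofNat 1949935),(24,.negSucc 80726),(25,.negSucc 50471),(26,.negSucc 3),(27,.ofNat 2116862)]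
set_option maxHeartbeats 0 in
set_option maxRecDepth 100000 in
theorem hcb16 : chkComb 3 23 rowsF 0 16 (0) cb16 = true := by decide +kernel
set_option maxRecDepth 100000 in
/-- A combination. -/
def cb17 : List (ℕ × ℤ) := [(1,.ofNat 18765),(2,.ofNat 41345),(3,.ofNat 157641),(4,.ofNat 67464),(5,.negSucc 4),(7,.ofNat 112431),(8,.negSucc 135053),(9,.negSucc 157640),(10,.ofNat 172409),(11,.ofNat 93841),(12,.ofNat 636709),(13,.ofNat 37495),(14,.negSucc 465569),(15,.ofNat 9),(16,.ofNat 1468530),(17,.negSucc 48730),(18,.negSucc 3393),(19,.negSucc 142414),(20,.negSucc 71259),(21,.ofNat 43256),(22,.ofNat 76846),(23,.ofNat 1449870),(24,.negSucc 60022),(25,.negSucc 37525),(26,.negSucc 2),(27,.ofNat 1573991)]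
set_option maxHeartbeats 0 in
set_option maxRecDepth 100000 in
theorem hcb17 : chkComb 3 23 rowsF 0 17 (0) cb17 = true := by decide +kernel
set_option maxRecDepth 100000 in
/-- A combination. -/
def cb18 : List (ℕ × ℤ) := [(1,.negSucc 3133),(2,.negSucc 6899),(3,.negSucc 26305),(4,.negSucc 11263),(6,.negSucc 2),(7,.negSucc 18788),(8,.ofNat 22540),(9,.ofNat 26306),(10,.negSucc 28771),(11,.negSucc 15647),(12,.negSucc 106212),(13,.negSucc 6256),(14,.ofNat 77674),(16,.negSucc 244986),(17,.ofNat 8133),(18,.ofNat 566),(19,.ofNat 23767),(20,.ofNat 11886),(21,.negSucc 7201),(22,.negSucc 12833),(23,.negSucc 241861),(24,.ofNat 10015),(25,.ofNat 6268),(26,.negSucc 0),(27,.negSucc 262563)]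
set_option maxHeartbeats 0 in
set_option maxRecDepth 100000 in
theorem hcb18 : chkComb 3 23 rowsF 0 18 (0) cb18 = true := by decide +kernel
set_option maxRecDepth 100000 in
/-- A combination. -/
def cb19 : List (ℕ × ℤ) := [(1,.negSucc 1),(2,.negSucc 1),(3,.negSucc 4),(4,.negSucc 4),(6,.negSucc 1),(7,.negSucc 20),(8,.ofNat 6),(9,.ofNat 5),(10,.negSucc 6),(11,.ofNat 4),(12,.ofNat 2),(13,.negSucc 0),(14,.ofNat 4),(15,.ofNat 1),(16,.negSucc 2),(17,.ofNat 2),(19,.ofNat 5),(20,.negSucc 0),(21,.ofNat 9),(22,.negSucc 8),(23,.ofNat 5),(24,.ofNat 1),(25,.ofNat 5),(26,.negSucc 0),(27,.ofNat 7)]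
set_option maxHeartbeats 0 in
set_option maxRecDepth 100000 in
theorem hcb19 : chkComb 3 23 rowsF 0 19 (0) cb19 = true := by decide +kernel
set_option maxRecDepth 100000 in
/-- A combination. -/
def cb20 : List (ℕ × ℤ) := [(1,.negSucc 6634),(2,.negSucc 14605),(3,.negSucc 55701),(4,.negSucc 23850),(5,.negSucc 1),(6,.negSucc 1),(7,.negSucc 39755),(8,.ofNat 47728),(9,.ofNat 55702),(10,.negSucc 60923),(11,.negSucc 33141),(12,.negSucc 224927),(13,.negSucc 13251),(14,.ofNat 164489),(15,.negSucc 1),(16,.negSucc 518798),(17,.ofNat 17222),(18,.ofNat 1197),(19,.ofNat 50324),(20,.ofNat 25172),(21,.negSucc 15266),(22,.negSucc 27164),(23,.negSucc 512193),(24,.ofNat 21208),(25,.ofNat 13266),(27,.negSucc 556034)]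
set_option maxHeartbeats 0 in
set_option maxRecDepth 100000 in
theorem hcb20 : chkComb 3 23 rowsF 0 20 (0) cb20 = true := by decide +kernel
set_option maxRecDepth 100000 in
/-- A combination. -/
def cb21 : List (ℕ × ℤ) := [(1,.negSucc 2),(3,.negSucc 1),(4,.negSucc 1),(6,.negSucc 1),(7,.negSucc 17),(8,.ofNat 3),(9,.ofNat 2),(10,.negSucc 2),(11,.ofNat 5),(12,.ofNat 9),(14,.negSucc 5),(15,.ofNat 1),(16,.ofNat 18),(17,.ofNat 1),(19,.ofNat 3),(20,.negSucc 1),(21,.ofNat 10),(22,.negSucc 7),(23,.ofNat 27),(25,.ofNat 4),(26,.negSucc 0),(27,.ofNat 29)]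
set_option maxHeartbeats 0 in
set_option maxRecDepth 100000 in
theorem hcb21 : chkComb 3 23 rowsF 0 21 (0) cb21 = true := by decide +kernel
set_option maxRecDepth 100000 in
/-- A combination. -/
def cb22 : List (ℕ × ℤ) := [(1,.negSucc 16081),(2,.negSucc 35407),(3,.negSucc 135029),(4,.negSucc 57807),(5,.negSucc 1),(6,.negSucc 2),(7,.negSucc 96350),(8,.ofNat 115695),(9,.ofNat 135030),(10,.negSucc 147686),(11,.negSucc 80353),(12,.negSucc 545299),(13,.negSucc 32122),(14,.ofNat 398763),(15,.negSucc 5),(16,.negSucc 1257727),(17,.ofNat 41747),(18,.ofNat 2903),(19,.ofNat 121993),(20,.ofNat 61027),(21,.negSucc 37022),(22,.negSucc 65842),(23,.negSucc 1241725),(24,.ofNat 51412),(25,.ofNat 32154),(26,.ofNat 1),(27,.negSucc 1348015)]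
set_option maxHeartbeats 0 in
set_option maxRecDepth 100000 in
theorem hcb22 : chkComb 3 23 rowsF 0 22 (0) cb22 = true := by decide +kernel

theorem hcert : ∀ q, q < 23 → ∃ (a : ℤ) (L : List (ℕ × ℤ)), chkComb 3 23 rowsF 0 q a L = true ∧ (q = 0 → a = 1 - ((1 : ℕ) : ℤ)) := by
  intro q hq
  interval_cases q
  · exact ⟨0, cb0, hcb0, by norm_num⟩
  · exact ⟨0, cb1, hcb1, by norm_num⟩
  · exact ⟨0, cb2, hcb2, by norm_num⟩
  · exact ⟨0, cb3, hcb3, by norm_num⟩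
  · exact ⟨0, cb4, hcb4, by norm_num⟩
  · exact ⟨0, cb5, hcb5, by norm_num⟩
  · exact ⟨0, cb6, hcb6, by norm_num⟩
  · exact ⟨0, cb7, hcb7, by norm_num⟩
  · exact ⟨0, cb8, hcb8, by norm_num⟩
  · exact ⟨0, cb9, hcb9, by norm_num⟩
  · exact ⟨0, cb10, hcb10, by norm_num⟩
  · exact ⟨0, cb11, hcb11, by norm_num⟩
  · exact ⟨0, cb12, hcb12, by norm_num⟩
  · exact ⟨0, cb13, hcb13, by norm_num⟩
  · exact ⟨0, cb14, hcb14, by norm_num⟩
  · exact ⟨0, cb15, hcb15, by norm_num⟩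
  · exact ⟨0, cb16, hcb16, by norm_num⟩
  · exact ⟨0, cb17, hcb17, by norm_num⟩
  · exact ⟨0, cb18, hcb18, by norm_num⟩
  · exact ⟨0, cb19, hcb19, by norm_num⟩
  · exact ⟨0, cb20, hcb20, by norm_num⟩
  · exact ⟨0, cb21, hcb21, by norm_num⟩
  · exact ⟨0, cb22, hcb22, by norm_num⟩


end Cfsg.Agent.Lib.KnownSimple.MultM.L33G
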