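import Mathlib

/-!
# Data of a coset enumeration
-/

set_option autoImplicit false

namespace Cfsg.Agent.Lib.KnownSimple.MultM.L33G

/-- Generated data. -/
def par3 : ℕ := 0x85433332221100
/-- Generated data. -/
def gix3 : ℕ := 0x1911a0d1220
/-- Generated data. -/
def dp3 : ℕ := 0x248db6db488
/-- Generated data. -/
def fa3 : ℕ := 0xdcbaa999888665444321dddd8cc8cc5bbbb4956637aaa3493336255221211100000
/-- Generated data. -/
def fl3 : ℕ := 0xc08008081820210100060010406040800810080040c20302001010210182000018202031800604202080c100080c2000404084000c1040608080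
/-- Generated data. -/
def fb3 : ℕ := 0x8543d34bd3c2a29a21108ddadcc88cc9bbbb95663364aa949876655543221110000
/-- Generated data. -/
def fk3 : ℕ := 0x1462310a4198822888628c623731770359ad160b292806dfe6095b9341dd0000982270000a04a0008421
/-- Generated data. -/
def po3 : ℕ := 0xe9e8e7e6e5e4e3e2e1e0dfdedddcdbdad9d8d7d6cdc4bbb6b6ada49b9085857c776c67675e594d46443e35322b2b1f161616161313100b0b0b0b060603000000000000
/-- Generated data. -/
def pc3 : ℕ := 0x1111111111111111111199950999bb095b5095c7269370c90003035000503300000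
/-- Generated data. -/
def pa3 : ℕ := 0x2a487caab24511ae2298718164cb8a121c22c54994e41b77266d49f3241993367d5a93e64833268cdab5112550ba848326ccbb326e4c875266ce9920cc99921d997665dc99b20b1552f54141c4daa39058aa98d063a8285e4be28389a57a91aa57c99ea77ef9731383868f3ac17bf7ca5ea87e9ca103ad982a6a94b1d7070bb660a890c144da2b5e50e9c2ab962f287592040ad89f60a9512101c181123ceaa4a9d512100c49356507080c0830404004934a9090f223868f2254e113a588972c3858f2e38401123c4071220289
/-- Generated data. -/
def can3 : ℕ := 0xdcba986543210
/-- Generated data. -/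
def tb3_0 : ℕ := 0xc7468b95a3120
/-- Generated data. -/
def fi3_0 : ℕ := 0x2c4d00c1e70d861f34c0380
/-- Generated data. -/
def tb3_1 : ℕ := 0xc589a76b21430
/-- Generated data. -/
def fi3_1 : ℕ := 0x2d828cb3b4e6d2326228481
/-- Generated data. -/
def tb3_2 : ℕ := 0x9bac436287510
/-- Generated data. -/
def fi3_2 : ℕ := 0x2b960fbce5cd5444b142
/-- Generated data. -/
def tb3_3 : ℕ := 0x7ba43c2598610
/-- Generated data. -/
def fi3_3 : ℕ := 0x425084bbd54dceb32438303
/-- Generated data. -/
def tb3_4 : ℕ := 0x7ba34c6589201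
/-- Generated data. -/
def fi3_4 : ℕ := 0x2ea62fd3e8f374548bc4

end Cfsg.Agent.Lib.KnownSimple.MultM.L33G
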